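import Cfsg.Agent.SmallSimple.FixedPoints
import Cfsg.Agent.SmallSimple.OneSixtyEight

/-!
# Local tools for the order 5040
-/

set_option autoImplicit false
set_option linter.style.haveILetI false
set_option linter.unusedSectionVars false

namespace CfsgLib.FiftyForty

open MulAction Subgroup CfsgLib.FixedPoints

variable {G : Type*} [Group G] [Finite G]

/-- The number of fixed cosets in terms of the class in the subgroup. -/
theorem fixed_mul_card (t : G) (H : Subgroup G) :
    Nat.card {c : G ⧸ H // t • c = c} * Nat.card H =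
      Nat.card {y : G // IsConj t y ∧ y ∈ H} * Nat.card (centralizer ({t} : Set G)) := by
  classical
  set C := centralizer ({t} : Set G)
  have h1 : ∀ a : G, t • (a : G ⧸ H) = (a : G ⧸ H) ↔ a⁻¹ * t * a ∈ H := fun a => by
    rw [Quotient.smul_coe, QuotientGroup.eq, smul_eq_mul, ← H.inv_mem_iff]
    simp [mul_assoc]
  have e1 : Nat.card {a : G // a⁻¹ * t * a ∈ H} = Nat.card H * Nat.card {c : G ⧸ H // t • c = c} := by
    rw [← Nat.card_prod]
    refine Nat.card_congr (((Equiv.subtypeEquivRight fun a => (h1 a).symm).trans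
      (Equiv.setCongr (s := {a : G | t • (a : G ⧸ H) = (a : G ⧸ H)})
        (t := QuotientGroup.mk ⁻¹' {c : G ⧸ H | t • c = c}) rfl)).trans
      (QuotientGroup.preimageMkEquivSubgroupProdSet H _))
  set U : Set (G ⧸ C) := {c | c.out * t * c.out⁻¹ ∈ H}
  have hout : ∀ a : G, (a : G ⧸ C).out * t * ((a : G ⧸ C).out)⁻¹ = a * t * a⁻¹ := fun a => by
    obtain ⟨c, hc⟩ := QuotientGroup.mk_out_eq_mul C a
    rw [hc, mul_inv_rev]
    have := mem_centralizer_singleton_iff.1 c.2
    calc a * c * t * ((c : G)⁻¹ * a⁻¹) = a * ((c : G) * t) * (c : G)⁻¹ * a⁻¹ := by group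
      _ = a * t * a⁻¹ := by rw [this]; group
  have e2 : Nat.card {a : G // a⁻¹ * t * a ∈ H} = Nat.card C * Nat.card U := by
    rw [← Nat.card_prod]
    refine Nat.card_congr ((Equiv.subtypeEquiv (Equiv.inv G) fun a => ?_).trans
      (QuotientGroup.preimageMkEquivSubgroupProdSet C U))
    show a⁻¹ * t * a ∈ H ↔ ((a⁻¹ : G) : G ⧸ C).out * t * ((a⁻¹ : G) : G ⧸ C).out⁻¹ ∈ H
    rw [hout, inv_inv]
  have e3 : Nat.card U = Nat.card {y : G // IsConj t y ∧ y ∈ H} := by
    refine Nat.card_eq_of_bijective (fun c => ⟨c.1.out * t * c.1.out⁻¹, isConj_iff.2 ⟨_, rfl⟩, c.2⟩) ⟨?_, ?_⟩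
    · intro c d hcd
      have h : c.1.out * t * c.1.out⁻¹ = d.1.out * t * d.1.out⁻¹ := congrArg Subtype.val hcd
      refine Subtype.ext ?_
      rw [← QuotientGroup.out_eq' c.1, ← QuotientGroup.out_eq' d.1, QuotientGroup.eq,
        mem_centralizer_singleton_iff]
      calc c.1.out⁻¹ * d.1.out * t = c.1.out⁻¹ * (d.1.out * t * d.1.out⁻¹) * d.1.out := by group
        _ = t * (c.1.out⁻¹ * d.1.out) := by rw [← h]; group
    · rintro ⟨y, hy, hyH⟩
      obtain ⟨a, rfl⟩ := isConj_iff.1 hy
      refine ⟨⟨(a : G ⧸ C), ?_⟩, Subtype.ext (hout a)⟩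
      show (a : G ⧸ C).out * t * ((a : G ⧸ C).out)⁻¹ ∈ H
      rw [hout]; exact hyH
  rw [← e3, mul_comm, ← e1, e2, mul_comm]

/-- The fixed cosets of conjugate elements are equinumerous. -/
theorem card_fixed_of_isConj {t y : G} (h : IsConj t y) (H : Subgroup G) :
    Nat.card {c : G ⧸ H // t • c = c} = Nat.card {c : G ⧸ H // y • c = c} := by
  obtain ⟨g, rfl⟩ := isConj_iff.1 h
  refine Nat.card_congr (Equiv.subtypeEquiv (MulAction.toPerm g) fun c => ?_)
  simp only [MulAction.toPerm_apply]
  rw [mul_smul, mul_smul, inv_smul_smul, smul_left_cancel_iff]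

/-- An element of order two inverting a generator of a Sylow subgroup fixes few cosets. -/
theorem card_fixed_inverting {p : ℕ} [hp : Fact p.Prime] (hp2 : p ≠ 2) (hsq : ¬ p ^ 2 ∣ Nat.card G) {g : G}
    (hg : orderOf g = p) {H : Subgroup G} (hN : normalizer ((zpowers g : Subgroup G) : Set G) ≤ H) {y : G}
    (hyg : y * g * y⁻¹ = g⁻¹) (hy : y • ((1 : G) : G ⧸ H) = ((1 : G) : G ⧸ H)) :
    p * (Nat.card {c : G ⧸ H // y • c = c} - 1) ≤ Nat.card (G ⧸ H) - 1 := by
  classical
  haveI := Fintype.ofFinite (G ⧸ H)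
  set b : G ⧸ H := ((1 : G) : G ⧸ H)
  set F := Finset.univ.filter fun c : G ⧸ H => y • c = c ∧ c ≠ b
  set T := Finset.univ.erase b
  have hF : F.card = Nat.card {c : G ⧸ H // y • c = c} - 1 := by
    rw [Nat.card_eq_fintype_card, Fintype.card_subtype, show F = (Finset.univ.filter fun c => y • c = c).erase b by
      ext c; simp [F, and_comm], Finset.card_erase_of_mem (by simp [hy, b])]
  have hbase : ∀ c : G ⧸ H, g • c = c → c = b := fun c => eq_base_of_fixed hsq hg hN
  have hgH : g ∈ H := hN (le_normalizer (mem_zpowers g))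
  have hgb : ∀ i : ℕ, g ^ i • b = b := fun i => by
    rw [show b = ((1 : G) : G ⧸ H) from rfl, Quotient.smul_coe, QuotientGroup.eq, smul_eq_mul, mul_one, mul_one,
      H.inv_mem_iff]
    exact pow_mem hgH i
  have hle : (F ×ˢ Finset.range p).card ≤ T.card := by
    refine Finset.card_le_card_of_injOn (fun q => g ^ q.2 • q.1) (fun q hq => ?_) ?_
    · obtain ⟨hq1, -⟩ := Finset.mem_product.1 hq
      refine Finset.mem_erase.2 ⟨fun h => (Finset.mem_filter.1 hq1).2.2 ?_, Finset.mem_univ _⟩
      rw [← smul_left_cancel_iff (g ^ q.2), hgb]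
      exact h
    · rintro ⟨c, i⟩ hq ⟨d, j⟩ hr e
      simp only [Finset.coe_product, Set.mem_prod, Finset.mem_coe, Finset.mem_range] at hq hr
      obtain ⟨hc, hi⟩ := hq
      obtain ⟨hd, hj⟩ := hr
      have hc' := (Finset.mem_filter.1 hc).2
      have hd' := (Finset.mem_filter.1 hd).2
      have key : ∀ k : ℕ, ∀ c : G ⧸ H, y • c = c → y • g ^ k • c = (g ^ k)⁻¹ • c := fun k c hyc => by
        have h := conj_pow (a := y) (b := g) (i := k)
        rw [hyg, inv_pow] at h
        rw [← mul_smul, show y * g ^ k = (g ^ k)⁻¹ * y by rw [h]; group, mul_smul, hyc]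
      have e' : g ^ i • c = g ^ j • d := e
      have e2 := congrArg (y • ·) e'
      simp only [key i c hc'.1, key j d hd'.1] at e2
      -- both `g ^ (2 i)` and `g ^ (2 j)` carry `c` and `d` to one point
      have e3 : g ^ i • g ^ i • d = g ^ j • g ^ j • d := by
        have : g ^ j • c = g ^ i • d := by
          have h := congrArg ((g ^ i * g ^ j) • ·) e2
          simp only [← mul_smul] at h
          rwa [(Commute.pow_pow (Commute.refl g) i j).eq, mul_inv_cancel_right,
            (Commute.pow_pow (Commute.refl g) j i).eq, mul_inv_cancel_right] at h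
        calc g ^ i • g ^ i • d = g ^ i • g ^ j • c := by rw [this]
          _ = g ^ j • g ^ i • c := by rw [← mul_smul, ← mul_smul, (Commute.pow_pow (Commute.refl g) i j).eq]
          _ = g ^ j • g ^ j • d := by rw [e']
      rw [← mul_smul, ← mul_smul, ← pow_add, ← pow_add] at e3
      have hij : i = j := by
        by_contra hne
        set u := (g ^ (i + i))⁻¹ * g ^ (j + j)
        have hu : u • d = d := by rw [mul_smul, ← e3, inv_smul_smul]
        have huz : g ∈ zpowers u := by
          have hum : u ∈ zpowers g := mul_mem (inv_mem (pow_mem (mem_zpowers g) _)) (pow_mem (mem_zpowers g) _)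
          have hu1 : u ≠ 1 := fun h1 => by
            have h2 : g ^ (i + i) = g ^ (j + j) := inv_mul_eq_one.1 h1
            rw [pow_inj_mod, hg] at h2
            have hodd := hp.out.odd_of_ne_two hp2
            have h3 : i ≡ j [MOD p] := by
              refine Nat.ModEq.cancel_left_of_coprime (c := 2) ?_ ?_
              · exact hp.out.coprime_iff_not_dvd.2 fun h => hp2 ((Nat.prime_dvd_prime_iff_eq hp.out Nat.prime_two).1 h)
              · show 2 * i % p = 2 * j % p
                simpa [two_mul] using h2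
            exact hne (by rwa [Nat.ModEq, Nat.mod_eq_of_lt hi, Nat.mod_eq_of_lt hj] at h3)
          have ho : orderOf u = p := by
            refine orderOf_eq_prime ?_ hu1
            obtain ⟨k, hk⟩ := hum
            rw [← hk]
            show (g ^ k) ^ p = 1
            rw [← zpow_natCast, ← zpow_mul, mul_comm, zpow_mul, zpow_natCast, ← hg, pow_orderOf_eq_one, one_zpow]
          rw [zpowers_eq_of_mem hg ho hum]
          exact mem_zpowers g
        have hgd : g • d = d := mem_stabilizer_iff.1 (zpowers_le.2 (show u ∈ stabilizer G d from hu) huz)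
        exact hd'.2 (hbase d hgd)
      subst hij
      exact Prod.ext (smul_left_cancel _ e') rfl
  rw [Finset.card_product, Finset.card_range, hF, Finset.card_erase_of_mem (Finset.mem_univ _), Finset.card_univ,
    ← Nat.card_eq_fintype_card, mul_comm] at hle
  exact hle

/-- An element of prime order inside the normaliser of an abelian subgroup lies on the unique line. -/
theorem mem_line {C N : Subgroup G} (hCN : C ≤ N) (hn : N ≤ normalizer (C : Set G))
    (hc : ∀ a ∈ C, ∀ b ∈ C, a * b = b * a) {q : ℕ} [hq : Fact q.Prime] (hsq : ¬ q ^ 2 ∣ Nat.card N) {r y : G}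
    (hrC : r ∈ C) (hr : orderOf r = q) (hyN : y ∈ N) (hy : orderOf y = q) : y ∈ zpowers r := by
  obtain ⟨⟨a, ha⟩, i, hi⟩ := sylow_conj (G := N) hsq (g := ⟨r, hCN hrC⟩) (g' := ⟨y, hyN⟩)
    (by rw [Subgroup.orderOf_mk, hr]) (by rw [Subgroup.orderOf_mk, hy])
  have hi' : r ^ i = a * y * a⁻¹ := congrArg Subtype.val hi
  have hyC : y ∈ C := by
    have := (mem_normalizer_iff.1 (hn ha) y).2 (hi' ▸ C.zpow_mem hrC i)
    exact this
  obtain ⟨⟨b, hb⟩, j, hj⟩ := sylow_conj (G := C) (fun h => hsq (h.trans (card_dvd_of_le hCN)))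
    (g := ⟨r, hrC⟩) (g' := ⟨y, hyC⟩) (by rw [Subgroup.orderOf_mk, hr]) (by rw [Subgroup.orderOf_mk, hy])
  have hj' : r ^ j = b * y * b⁻¹ := congrArg Subtype.val hj
  exact ⟨j, by show r ^ j = y; rw [hj', hc b hb y hyC, mul_inv_cancel_right]⟩

end CfsgLib.FiftyForty
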