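import Cfsg.Agent.Char.Basic
import Mathlib.LinearAlgebra.Trace

/-!
# A bound for the value at an involution inverting a subgroup
-/

set_option autoImplicit false
set_option linter.style.haveILetI false

namespace CfsgLib.FiftyForty

open Finset

/-- An idempotent has a natural number as trace. -/
theorem trace_idem {n : ℕ} (Q : Module.End ℂ (Fin n → ℂ)) (h : Q * Q = Q) :
    ∃ m : ℕ, LinearMap.trace ℂ (Fin n → ℂ) Q = (m : ℂ) := by
  obtain ⟨V, hV⟩ := (LinearMap.isProj_iff_isIdempotentElem Q).mpr h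
  exact ⟨_, hV.trace⟩

/-- If an involution `w` inverts a subgroup `P`, the sums of a character over `w P` and over `P` differ and
add up to nonnegative multiples of twice the order of `P`. -/
theorem exists_inverted_bound {G : Type*} [Group G] {P : Subgroup G} [Fintype P] {χ : G → ℂ}
    (hχ : Cfsg.IsCharacter G χ) {w : G} (hw : w * w = 1) (hinv : ∀ z : P, w * z = (z : G)⁻¹ * w) :
    ∃ m₁ m₂ : ℕ, (∑ z : P, χ z) + ∑ z : P, χ (w * z) = 2 * Fintype.card P * m₁ ∧
      (∑ z : P, χ z) - ∑ z : P, χ (w * z) = 2 * Fintype.card P * m₂ := by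
  obtain ⟨n, ρ, rfl⟩ := hχ
  set c : ℂ := (Fintype.card P : ℂ)⁻¹ with hc
  have hP : (Fintype.card P : ℂ) ≠ 0 := Nat.cast_ne_zero.2 Fintype.card_ne_zero
  obtain ⟨e, he⟩ : ∃ e : Module.End ℂ (Fin n → ℂ), e = c • ∑ z : P, ρ (z : G) := ⟨_, rfl⟩
  have habs : ∀ z₀ : P, ρ (z₀ : G) * e = e := fun z₀ => by
    rw [he, mul_smul_comm, Finset.mul_sum]
    congr 1
    refine Fintype.sum_equiv (Equiv.mulLeft z₀) _ _ fun z => ?_
    rw [Equiv.coe_mulLeft, Subgroup.coe_mul, map_mul]
  have hee : e * e = e := by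
    conv_lhs => arg 1; rw [he]
    rw [smul_mul_assoc, Finset.sum_mul, Finset.sum_congr rfl (fun z _ => habs z), Finset.sum_const,
      Finset.card_univ, ← Nat.cast_smul_eq_nsmul ℂ, smul_smul, hc, inv_mul_cancel₀ hP, one_smul]
  have hwe : ρ w * e = e * ρ w := by
    rw [he, mul_smul_comm, smul_mul_assoc, Finset.mul_sum, Finset.sum_mul]
    congr 1
    refine Fintype.sum_equiv (Equiv.inv P) _ _ fun z => ?_
    rw [Equiv.inv_apply, ← map_mul, hinv z, map_mul, Subgroup.coe_inv]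
  obtain ⟨T, hT⟩ : ∃ T : Module.End ℂ (Fin n → ℂ), T = ρ w * e := ⟨_, rfl⟩
  have hTT : T * T = e := by
    calc T * T = ρ w * (e * ρ w) * e := by rw [hT]; simp only [mul_assoc]
      _ = (ρ w * ρ w) * (e * e) := by rw [← hwe]; simp only [mul_assoc]
      _ = e := by rw [← map_mul, hw, map_one, one_mul, hee]
  have hTe : T * e = T := by rw [hT, mul_assoc, hee]
  have heT : e * T = T := by rw [hT, ← mul_assoc, ← hwe, mul_assoc, hee]
  have hQ : ∀ ε : ℂ, ε * ε = 1 → ((2 : ℂ)⁻¹ • (e + ε • T)) * ((2 : ℂ)⁻¹ • (e + ε • T)) = (2 : ℂ)⁻¹ • (e + ε • T) := by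
    intro ε hε
    have h1 : (e + ε • T) * (e + ε • T) = (2 : ℂ) • (e + ε • T) := by
      have h2 : (ε • T) * (ε • T) = e := by rw [smul_mul_assoc, mul_smul_comm, smul_smul, hε, one_smul, hTT]
      rw [add_mul, mul_add, mul_add, h2, hee, mul_smul_comm, smul_mul_assoc, heT, hTe]
      module
    rw [smul_mul_assoc, mul_smul_comm, h1, smul_smul, smul_smul]
    norm_num
  obtain ⟨m₁, h₁⟩ := trace_idem _ (hQ 1 (one_mul 1))
  obtain ⟨m₂, h₂⟩ := trace_idem _ (hQ (-1) (by norm_num))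
  have htr : LinearMap.trace ℂ (Fin n → ℂ) e = c * ∑ z : P, ρ.character z := by
    rw [he, map_smul, map_sum, smul_eq_mul]
    rfl
  have htrT : LinearMap.trace ℂ (Fin n → ℂ) T = c * ∑ z : P, ρ.character (w * z) := by
    rw [hT, he, mul_smul_comm, Finset.mul_sum, map_smul, map_sum, smul_eq_mul]
    congr 1
    refine Finset.sum_congr rfl fun z _ => ?_
    rw [← map_mul]
    rfl
  simp only [map_smul, map_add, htr, htrT, smul_eq_mul] at h₁ h₂
  refine ⟨m₁, m₂, ?_, ?_⟩
  · rw [← h₁, hc]; field_simp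
  · rw [← h₂, hc]; field_simp; ring

end CfsgLib.FiftyForty
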