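import Cfsg.Agent.SmallSimple.FiftyForty.Values
import Cfsg.Agent.SmallSimple.FiftyForty.Local
import Cfsg.Agent.PermSimple.Criteria

/-!
# No simple group has order 5040

The number of Sylow 7-subgroups is 8, 15, 36 or 120. Fixed points of elements commuting with an element of
order 7 rule out everything but a self-centralising one with normaliser of order 42, which the character
table excludes.
-/

set_option autoImplicit false
set_option linter.style.haveILetI false
set_option linter.unusedSectionVars false

namespace CfsgLib.FiftyForty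

open MulAction Subgroup CfsgLib.FixedPoints

variable {G : Type*} [Group G] [Finite G] [IsSimpleGroup G]

theorem index_divisors : ∀ k ∈ List.range 721, (720 % k == 0 && k % 7 == 1 && k != 1) = true →
    k = 8 ∨ k = 15 ∨ k = 36 ∨ k = 120 := by decide +kernel

theorem conj_zpowers_eq_or {y s : G} (hs : orderOf s = 7) (hyy : y * y = 1)
    (hy : y ∈ normalizer ((zpowers s : Subgroup G) : Set G)) :
    y * s * y⁻¹ = s ∨ y * s * y⁻¹ = s⁻¹ := by
  classical
  have h := (mem_normalizer_iff.1 hy s).1 (mem_zpowers s)
  rw [mem_zpowers_iff_mem_range_orderOf, hs, Finset.mem_image] at h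
  obtain ⟨i, hi, hie⟩ := h
  rw [Finset.mem_range] at hi
  have h7 : s ^ 7 = 1 := by rw [← hs, pow_orderOf_eq_one]
  have hsq : s ^ (i * i) = s ^ 1 := by
    rw [pow_one, pow_mul, hie, conj_pow, hie]
    calc y * (y * s * y⁻¹) * y⁻¹ = (y * y) * s * (y * y)⁻¹ := by group
      _ = s := by rw [hyy, one_mul, inv_one, mul_one]
  rw [pow_inj_mod, hs] at hsq
  interval_cases i <;> try (norm_num at hsq)
  · exact Or.inl (by rw [← hie, pow_one])
  · refine Or.inr ?_
    rw [← hie]
    exact eq_inv_of_mul_eq_one_left (by rw [← pow_succ, h7])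

theorem false_of_card (hn : Nat.card G = 5040) : False := by
  classical
  haveI : Fact (Nat.Prime 7) := ⟨by norm_num⟩
  obtain ⟨P⟩ : Nonempty (Sylow 7 G) := inferInstance
  have hP : Nat.card (P : Subgroup G) = 7 :=
    (CfsgLib.SmallSimple.card_sylow_eq P (k := 1) (m := 720) (by rw [hn]; norm_num) (by norm_num)).trans (pow_one 7)
  have hG := CfsgLib.SmallSimple.not_comm_of_sylow P (by omega) (by omega)
  haveI : IsCyclic (P : Subgroup G) := isCyclic_of_prime_card hP
  obtain ⟨⟨s, hsP⟩, hs⟩ := IsCyclic.exists_ofOrder_eq_natCard (α := (P : Subgroup G))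
  rw [hP, Subgroup.orderOf_mk] at hs
  have hPs : (P : Subgroup G) = zpowers s :=
    (eq_of_le_of_card_ge (zpowers_le.2 hsP) (by rw [hP, Nat.card_zpowers, hs])).symm
  have hsq : ¬ 7 ^ 2 ∣ Nat.card G := by rw [hn]; norm_num
  set N := normalizer ((zpowers s : Subgroup G) : Set G) with hNdef
  set C := centralizer ({s} : Set G) with hCdef
  have hCs : centralizer ((zpowers s : Subgroup G) : Set G) = C := by
    rw [hCdef, zpowers_eq_closure, centralizer_closure]
  have hCN : C ≤ N := hCs ▸ centralizer_le_normalizer _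
  have hCn : N ≤ normalizer (C : Set G) := by
    intro n hn'
    rw [← hCs]
    refine mem_normalizer_iff.2 fun c => ?_
    have key : ∀ m ∈ N, ∀ c ∈ centralizer ((zpowers s : Subgroup G) : Set G),
        m * c * m⁻¹ ∈ centralizer ((zpowers s : Subgroup G) : Set G) := by
      intro m hm c hc
      refine mem_centralizer_iff.2 fun z hz => ?_
      have hz' : m⁻¹ * z * m ∈ zpowers s := by
        have := (mem_normalizer_iff.1 (inv_mem hm) z).1 hz
        rwa [inv_inv] at this
      have := mem_centralizer_iff.1 hc _ hz'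
      calc z * (m * c * m⁻¹) = m * (m⁻¹ * z * m * c) * m⁻¹ := by group
        _ = m * c * m⁻¹ * z := by rw [this]; group
    refine ⟨fun hc => key n hn' c hc, fun hc => ?_⟩
    have := key n⁻¹ (inv_mem hn') _ hc
    simpa [mul_assoc] using this
  have hsC : s ∈ C := mem_centralizer_singleton_iff.2 rfl
  have hne : ¬ N ≤ C := by
    have h := CfsgLib.SmallSimple.not_le_centralizer P (by omega) (by omega)
    rw [hPs, hCs] at h
    exact h
  have hN6 : Nat.card N ∣ Nat.card C * 6 := by
    have h := CfsgLib.PermSimple.normalizer_card_dvd (zpowers s) (by rw [Nat.card_zpowers, hs] : Nat.card (zpowers s) = 7)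
    rwa [hCs] at h
  have hC7 : 7 ∣ Nat.card C := by
    have := orderOf_dvd_natCard (⟨s, hsC⟩ : C)
    rwa [orderOf_mk, hs] at this
  have hCdvd : Nat.card C ∣ Nat.card N := card_dvd_of_le hCN
  have hCneN : Nat.card C ≠ Nat.card N := fun h => hne (eq_of_le_of_card_ge hCN h.ge).ge
  have hNtop : N ≠ ⊤ := fun h => by
    haveI : (zpowers s).Normal := normalizer_eq_top_iff.1 h
    rcases IsSimpleGroup.eq_bot_or_eq_top_of_normal (zpowers s) inferInstance with e | e
    · have := congrArg (fun K : Subgroup G => Nat.card K) e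
      rw [Nat.card_zpowers, hs, card_bot] at this; omega
    · have := congrArg (fun K : Subgroup G => Nat.card K) e
      rw [Nat.card_zpowers, hs, card_top, hn] at this; omega
  -- the number of Sylow subgroups
  have hk : Nat.card (Sylow 7 G) * Nat.card N = 5040 := by
    have h := CfsgLib.SmallSimple.card_sylow_mul P
    rwa [hPs, hn] at h
  have hkdvd : Nat.card (Sylow 7 G) ∣ 720 := by
    have h := P.card_dvd_index
    have h2 := (P : Subgroup G).card_mul_index
    rw [hP, hn] at h2
    rwa [show (P : Subgroup G).index = 720 by omega] at h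
  have hcases := index_divisors (Nat.card (Sylow 7 G))
    (List.mem_range.2 (Nat.lt_succ_of_le (Nat.le_of_dvd (by norm_num) hkdvd))) (by
      simp only [Bool.and_eq_true, beq_iff_eq, bne_iff_ne]
      exact ⟨⟨Nat.mod_eq_zero_of_dvd hkdvd,
        Eq.trans (card_sylow_modEq_one 7 G) (Nat.mod_eq_of_lt (by norm_num : 1 < 7))⟩,
        CfsgLib.SmallSimple.card_sylow_ne_one P (by omega) (by omega)⟩)
  have hidx : Nat.card (G ⧸ N) = Nat.card (Sylow 7 G) := by
    rw [← index_eq_card, P.card_eq_index_normalizer, hNdef, ← hPs]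
    rfl
  have hcomm : ∀ v ∈ C, Commute v s := fun v hv => mem_centralizer_singleton_iff.1 hv
  -- fixed cosets of elements centralising the Sylow subgroup
  have hmod : ∀ v ∈ C, Nat.card {c : G ⧸ N // v • c = c} % 7 = 1 := fun v hv =>
    card_fixed_mod hsq hs le_rfl (hcomm v hv)
  have hfle : ∀ v : G, Nat.card {c : G ⧸ N // v • c = c} ≤ Nat.card (G ⧸ N) := fun v =>
    Nat.card_le_card_of_injective _ Subtype.val_injective
  have hone : ∀ v : G, v ≠ 1 → Nat.card {c : G ⧸ N // v • c = c} ≠ Nat.card (G ⧸ N) := fun v hv h =>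
    hv (eq_one_of_fixed hNtop h)
  rcases hcases with h8 | h15 | h36 | h120
  · -- eight
    have hNc : Nat.card N = 630 := by rw [h8] at hk; omega
    have h5 : 5 ∣ Nat.card C := by
      have : 5 ∣ Nat.card C * 6 := (by rw [hNc]; norm_num : 5 ∣ Nat.card N).trans hN6
      exact (Nat.Coprime.dvd_of_dvd_mul_right (by norm_num) this)
    haveI : Fact (Nat.Prime 5) := ⟨by norm_num⟩
    obtain ⟨⟨q, hqC⟩, hq⟩ := exists_prime_orderOf_dvd_card' (G := C) 5 h5
    rw [orderOf_mk] at hq
    have hq1 : q ≠ 1 := fun h => by rw [h, orderOf_one] at hq; omega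
    have h1 := hmod q hqC
    have h2 := card_fixed_modEq (q := 5) (by rw [← hq, pow_orderOf_eq_one] : q ^ 5 = 1) (G ⧸ N)
    have h3 := hfle q
    have h4 := hone q hq1
    rw [hidx, h8] at h2 h3 h4
    omega
  · -- fifteen
    have hNc : Nat.card N = 336 := by rw [h15] at hk; omega
    have h2' : 2 ∣ Nat.card C := by
      rw [hNc] at hN6
      have : 2 * 168 ∣ Nat.card C * 6 := hN6
      omega
    haveI : Fact (Nat.Prime 2) := ⟨Nat.prime_two⟩
    obtain ⟨⟨v, hvC⟩, hv⟩ := exists_prime_orderOf_dvd_card' (G := C) 2 h2'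
    rw [orderOf_mk] at hv
    have hv1 : v ≠ 1 := fun h => by rw [h, orderOf_one] at hv; omega
    obtain ⟨k, hk'⟩ := involution_parity hG (by rw [← hv, pow_orderOf_eq_one] : v ^ 2 = 1) (G ⧸ N)
    have h1 := hmod v hvC
    have h4 := hone v hv1
    rw [hidx, h15] at hk' h4
    omega
  · -- thirty-six
    have hNc : Nat.card N = 140 := by rw [h36] at hk; omega
    have hC : Nat.card C = 70 := by
      have hle : Nat.card C ≤ 140 := hNc ▸ Nat.le_of_dvd Nat.card_pos hCdvd
      rw [hNc] at hN6 hCdvd hCneN
      obtain ⟨c, hc⟩ := hCdvd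
      interval_cases h : Nat.card C <;> omega
    haveI : Fact (Nat.Prime 2) := ⟨Nat.prime_two⟩
    obtain ⟨⟨t, htC⟩, ht⟩ := exists_prime_orderOf_dvd_card' (G := C) 2 (by rw [hC]; norm_num)
    rw [orderOf_mk] at ht
    have ht1 : t ≠ 1 := fun h => by rw [h, orderOf_one] at ht; omega
    have ht2 : t ^ 2 = 1 := by rw [← ht, pow_orderOf_eq_one]
    have hfix : Nat.card {c : G ⧸ N // t • c = c} = 8 := by
      obtain ⟨k, hk'⟩ := involution_parity hG ht2 (G ⧸ N)
      have h1 := hmod t htC
      have h4 := hone t ht1
      rw [hidx, h36] at hk' h4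
      omega
    -- the conjugates in the normaliser lie in the centraliser
    have hin : ∀ y : G, IsConj t y → y ∈ N → y ∈ C := by
      intro y hy hyN
      have hyy : y * y = 1 := by
        obtain ⟨g, rfl⟩ := isConj_iff.1 hy
        rw [← sq, conj_pow, ht2, mul_one, mul_inv_cancel]
      rcases conj_zpowers_eq_or hs hyy hyN with e | e
      · exact mem_centralizer_singleton_iff.2 (mul_inv_eq_iff_eq_mul.1 e)
      · exfalso
        have hb : y • ((1 : G) : G ⧸ N) = ((1 : G) : G ⧸ N) := by
          rw [Quotient.smul_coe, QuotientGroup.eq, smul_eq_mul, mul_one, mul_one, N.inv_mem_iff]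
          exact hyN
        have h := card_fixed_inverting (by norm_num) hsq hs le_rfl e hb
        rw [← card_fixed_of_isConj hy, hfix, hidx, h36] at h
        omega
    -- they form a single class of odd size there
    have hclass : ∀ y : G, y ∈ C → orderOf y = 2 → ∃ a ∈ C, y = a * t * a⁻¹ := by
      intro y hy hyo
      obtain ⟨⟨a, ha⟩, i, hi⟩ := sylow_conj (G := C) (by rw [hC]; norm_num : ¬ 2 ^ 2 ∣ Nat.card C)
        (g := ⟨t, htC⟩) (g' := ⟨y, hy⟩) (by rw [orderOf_mk, ht]) (by rw [orderOf_mk, hyo])
      have hi' : t ^ i = a * y * a⁻¹ := congrArg Subtype.val hi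
      have h1 : t ^ i = t := by
        rw [← zpow_mod_orderOf, ht]
        rcases Int.emod_two_eq_zero_or_one i with h | h
        · exfalso
          rw [← zpow_mod_orderOf, ht, Nat.cast_two, h, zpow_zero] at hi'
          have : y = 1 := conj_eq_one_iff.1 hi'.symm
          rw [this, orderOf_one] at hyo
          omega
        · rw [Nat.cast_two, h, zpow_one]
      refine ⟨a⁻¹, inv_mem ha, ?_⟩
      rw [← h1, hi']; group
    have hm : Nat.card {y : G // IsConj t y ∧ y ∈ N} *
        Nat.card (centralizer ({(⟨t, htC⟩ : C)} : Set C)) = 70 := by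
      have h := fixed_mul_card (⟨t, htC⟩ : C) (⊤ : Subgroup C)
      have hsub : Subsingleton (C ⧸ (⊤ : Subgroup C)) :=
        ⟨fun a b => Quotient.inductionOn₂ a b fun x y => QuotientGroup.eq.2 (mem_top _)⟩
      rw [card_top, hC, show Nat.card {c : C ⧸ (⊤ : Subgroup C) // (⟨t, htC⟩ : C) • c = c} = 1 from
        Nat.card_eq_one_iff_unique.2 ⟨⟨fun a b => Subtype.ext (Subsingleton.elim _ _)⟩,
          ⟨⟨((1 : C) : C ⧸ (⊤ : Subgroup C)), Subsingleton.elim _ _⟩⟩⟩, one_mul] at h
      rw [show Nat.card {y : G // IsConj t y ∧ y ∈ N} =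
        Nat.card {y : C // IsConj (⟨t, htC⟩ : C) y ∧ y ∈ (⊤ : Subgroup C)} from ?_]
      · exact h.symm
      refine Nat.card_eq_of_bijective (fun y => ⟨⟨y.1, hin y.1 y.2.1 y.2.2⟩, ?_, mem_top _⟩) ⟨?_, ?_⟩
      · obtain ⟨a, ha, e⟩ := hclass y.1 (hin y.1 y.2.1 y.2.2) (by
          obtain ⟨g, hg⟩ := isConj_iff.1 y.2.1
          rw [← hg, ← MulAut.conj_apply, MulEquiv.orderOf_eq, ht])
        exact isConj_iff.2 ⟨⟨a, ha⟩, Subtype.ext e.symm⟩
      · intro a b e
        exact Subtype.ext (congrArg Subtype.val (congrArg Subtype.val e :) :)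
      · rintro ⟨⟨y, hy⟩, hc, -⟩
        obtain ⟨a, ha⟩ := isConj_iff.1 hc
        exact ⟨⟨y, isConj_iff.2 ⟨a, congrArg Subtype.val ha⟩, hCN hy⟩, rfl⟩
    have heven : 2 ∣ Nat.card (centralizer ({(⟨t, htC⟩ : C)} : Set C)) := by
      have h : orderOf (⟨⟨t, htC⟩, mem_centralizer_singleton_iff.2 rfl⟩ :
          centralizer ({(⟨t, htC⟩ : C)} : Set C)) = 2 := by rw [orderOf_mk, orderOf_mk, ht]
      exact h ▸ _root_.orderOf_dvd_natCard _
    have hf := fixed_mul_card t N
    rw [hfix, hNc] at hf
    have hCd : Nat.card (centralizer ({t} : Set G)) ∣ 5040 := hn ▸ card_subgroup_dvd_card _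
    set m := Nat.card {y : G // IsConj t y ∧ y ∈ N}
    set K := Nat.card (centralizer ({t} : Set G))
    obtain ⟨c, hc⟩ := heven
    rw [hc] at hm
    have hodd : Nat.Coprime 32 m := by
      refine (Nat.Coprime.pow_left 5 ?_ : Nat.Coprime (2 ^ 5) m)
      rw [Nat.prime_two.coprime_iff_not_dvd]
      rintro ⟨j, hj⟩
      rw [hj] at hm
      have h4 : 4 ∣ 70 := ⟨j * c, by rw [← hm]; ring⟩
      omega
    have h32 : 32 ∣ m * K := ⟨35, by rw [← hf]⟩
    have := (hodd.dvd_of_dvd_mul_left h32).trans hCd
    omega
  · -- one hundred and twenty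
    have hNc : Nat.card N = 42 := by rw [h120] at hk; omega
    have hC : Nat.card C = 7 ∨ Nat.card C = 14 ∨ Nat.card C = 21 := by
      have hle : Nat.card C ≤ 42 := hNc ▸ Nat.le_of_dvd Nat.card_pos hCdvd
      rw [hNc] at hN6 hCdvd hCneN
      obtain ⟨c, hc⟩ := hC7
      obtain ⟨e, he⟩ := hCdvd
      rw [hc] at he hN6 hCneN hle ⊢
      have : c ≤ 6 := by omega
      interval_cases c <;> omega
    have habel : ∀ q : ℕ, q.Prime → Nat.card C = 7 * q → q ≠ 7 → ∀ r ∈ C, orderOf r = q →
        ∀ a ∈ C, ∀ b ∈ C, a * b = b * a := by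
      intro q hqp hCq hq7 r hrC hr a ha b hb
      have ho : orderOf (s * r) = 7 * q := by
        rw [(hcomm r hrC).symm.orderOf_mul_eq_mul_orderOf_of_coprime, hs, hr]
        rw [hs, hr]
        exact (Nat.coprime_primes (by norm_num) hqp).2 (Ne.symm hq7)
      have hz : zpowers (s * r) = C :=
        eq_of_le_of_card_ge (zpowers_le.2 (mul_mem hsC hrC)) (by rw [hCq, Nat.card_zpowers, ho])
      rw [← hz] at ha hb
      exact setLike_mul_comm (S := Subgroup G) ha hb
    rcases hC with hC | hC | hC
    · -- self-centralising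
      letI := Fintype.ofFinite G
      haveI : Fact (Nat.Prime 2) := ⟨Nat.prime_two⟩
      obtain ⟨⟨w, hwN⟩, hw⟩ := exists_prime_orderOf_dvd_card' (G := N) 2 (by rw [hNc]; norm_num)
      rw [orderOf_mk] at hw
      have hww : w * w = 1 := by rw [← sq, ← hw, pow_orderOf_eq_one]
      have hwC : w ∉ C := fun h => by
        have := orderOf_dvd_natCard (⟨w, h⟩ : C)
        rw [orderOf_mk, hw, hC] at this
        omega
      refine false_of_self_centralizing hG hn hs hC ?_ hww
        ((conj_zpowers_eq_or hs hww hwN).resolve_left fun e =>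
          hwC (mem_centralizer_singleton_iff.2 (mul_inv_eq_iff_eq_mul.1 e)))
      intro z hz hz1
      haveI := Fintype.ofFinite N
      let T : Finset G := (Finset.univ.filter fun y => y ∈ zpowers s).erase 1
      have hT : T.card = 6 := by
        rw [Finset.card_erase_of_mem (Finset.mem_filter.2 ⟨Finset.mem_univ _, one_mem _⟩), ← Fintype.card_subtype,
          ← Nat.card_eq_fintype_card, show Nat.card {x // x ∈ zpowers s} = 7 from (Nat.card_zpowers s).trans hs]
      let I : Finset G := (Finset.univ : Finset N).image (fun n : N => (n : G) * s * (n : G)⁻¹)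
      have hIT : I ⊆ T := by
        intro y hy
        obtain ⟨n, -, rfl⟩ := Finset.mem_image.1 hy
        refine Finset.mem_erase.2 ⟨fun h => ?_, Finset.mem_filter.2 ⟨Finset.mem_univ _,
          (mem_normalizer_iff.1 n.2 s).1 (mem_zpowers s)⟩⟩
        have := conj_eq_one_iff.1 h
        rw [this, orderOf_one] at hs; omega
      have hle : (Finset.univ : Finset N).card ≤ 7 * I.card := by
        refine Finset.card_le_mul_card_image (f := fun n : N => (n : G) * s * (n : G)⁻¹) _ 7 fun y hy => ?_
        obtain ⟨m, -, rfl⟩ := Finset.mem_image.1 hy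
        haveI := Fintype.ofFinite C
        rw [← hC, Nat.card_eq_fintype_card, ← Finset.card_univ]
        refine Finset.card_le_card_of_injOn (fun n => if h : (m : G)⁻¹ * n ∈ C then (⟨_, h⟩ : C) else 1)
          (fun _ _ => Finset.mem_univ _) ?_
        intro a ha b hb hab
        simp only [Finset.coe_filter, Finset.mem_univ, true_and, Set.mem_ofPred_eq] at ha hb
        have key : ∀ n : N, (n : G) * s * (n : G)⁻¹ = (m : G) * s * (m : G)⁻¹ → (m : G)⁻¹ * n ∈ C := by
          intro n h
          rw [hCdef, mem_centralizer_singleton_iff]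
          calc (m : G)⁻¹ * n * s = (m : G)⁻¹ * ((n : G) * s * (n : G)⁻¹) * n := by group
            _ = s * ((m : G)⁻¹ * n) := by rw [h]; group
        simp only [dif_pos (key a ha), dif_pos (key b hb), Subtype.mk.injEq, mul_right_inj] at hab
        exact Subtype.ext hab
      rw [Finset.card_univ, ← Nat.card_eq_fintype_card, hNc] at hle
      have hI : I = T := Finset.eq_of_subset_of_card_le hIT (by omega)
      obtain ⟨n, -, hn'⟩ := Finset.mem_image.1
        (hI.ge (Finset.mem_erase.2 ⟨hz1, Finset.mem_filter.2 ⟨Finset.mem_univ _, hz⟩⟩))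
      exact isConj_iff.2 ⟨(n : G), hn'⟩
    · -- an involution centralises
      haveI : Fact (Nat.Prime 2) := ⟨Nat.prime_two⟩
      obtain ⟨⟨t, htC⟩, ht⟩ := exists_prime_orderOf_dvd_card' (G := C) 2 (by rw [hC]; norm_num)
      rw [orderOf_mk] at ht
      have ht1 : t ≠ 1 := fun h => by rw [h, orderOf_one] at ht; omega
      have ht2 : t ^ 2 = 1 := by rw [← ht, pow_orderOf_eq_one]
      have hab := habel 2 Nat.prime_two (by rw [hC]) (by norm_num) t htC ht
      have huniq : ∀ y ∈ N, orderOf y = 2 → y = t := by
        intro y hy hyo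
        have h := mem_line hCN hCn hab (q := 2) (by rw [hNc]; norm_num) htC ht hy hyo
        rw [mem_zpowers_iff_mem_range_orderOf, ht, Finset.mem_image] at h
        obtain ⟨i, hi, rfl⟩ := h
        rw [Finset.mem_range] at hi
        interval_cases i
        · rw [pow_zero, orderOf_one] at hyo; omega
        · rw [pow_one]
      have hcent : N ≤ centralizer ({t} : Set G) := fun n hn' => by
        refine mem_centralizer_singleton_iff.2 (mul_inv_eq_iff_eq_mul.1 (huniq _ ?_ ?_))
        · exact N.mul_mem (N.mul_mem hn' (hCN htC)) (N.inv_mem hn')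
        · rw [← MulAut.conj_apply, MulEquiv.orderOf_eq, ht]
      have hm : Nat.card {y : G // IsConj t y ∧ y ∈ N} = 1 := by
        refine Nat.card_eq_one_iff_unique.2 ⟨⟨fun a b => Subtype.ext ?_⟩, ⟨⟨t, IsConj.refl t, hCN htC⟩⟩⟩
        have key : ∀ y : {y : G // IsConj t y ∧ y ∈ N}, y.1 = t := fun y => by
          refine huniq _ y.2.2 ?_
          obtain ⟨g, hg⟩ := isConj_iff.1 y.2.1
          rw [← hg, ← MulAut.conj_apply, MulEquiv.orderOf_eq, ht]
        rw [key a, key b]
      have hf := fixed_mul_card t N
      rw [hm, one_mul, hNc] at hf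
      set H := centralizer ({t} : Set G)
      set f := Nat.card {c : G ⧸ N // t • c = c} with hfdef
      have h1 := hmod t htC
      have h4 := hone t ht1
      have h3 := hfle t
      obtain ⟨k, hk'⟩ := involution_parity hG ht2 (G ⧸ N)
      rw [hidx, h120, ← hfdef] at hk' h4 h3
      rw [← hfdef] at h1
      have hKd : Nat.card H ∣ 5040 := hn ▸ card_subgroup_dvd_card _
      have hf8 : f = 8 := by
        rw [← hf] at hKd
        have : f ∣ 120 := Nat.dvd_of_mul_dvd_mul_right (by norm_num : 0 < 42) (by simpa using hKd)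
        obtain ⟨e, he⟩ := this
        rcases (by omega : f = 8 ∨ f = 36 ∨ f = 64 ∨ f = 92) with h | h | h | h
        · exact h
        all_goals rw [h] at he; omega
      have hHc : Nat.card H = 336 := by rw [← hf, hf8]
      have hH15 : Nat.card (G ⧸ H) = 15 := by
        have := H.card_mul_index
        rw [hHc, hn, index_eq_card] at this
        omega
      have hHtop : H ≠ ⊤ := fun h => by rw [h, card_top, hn] at hHc; omega
      have h1' := card_fixed_mod hsq hs (H := H) hcent (hcomm t htC)
      have h4' : Nat.card {c : G ⧸ H // t • c = c} ≠ Nat.card (G ⧸ H) := fun h => ht1 (eq_one_of_fixed hHtop h)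
      obtain ⟨k', hk''⟩ := involution_parity hG ht2 (G ⧸ H)
      rw [hH15] at hk'' h4'
      omega
    · -- an element of order three centralises
      haveI : Fact (Nat.Prime 3) := ⟨Nat.prime_three⟩
      obtain ⟨⟨r, hrC⟩, hr⟩ := exists_prime_orderOf_dvd_card' (G := C) 3 (by rw [hC]; norm_num)
      rw [orderOf_mk] at hr
      have hr1 : r ≠ 1 := fun h => by rw [h, orderOf_one] at hr; omega
      have hr3 : r ^ 3 = 1 := by rw [← hr, pow_orderOf_eq_one]
      have hab := habel 3 Nat.prime_three (by rw [hC]) (by norm_num) r hrC hr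
      have hline : ∀ y ∈ N, orderOf y = 3 → y = r ∨ y = r ^ 2 := by
        intro y hy hyo
        have h := mem_line hCN hCn hab (q := 3) (by rw [hNc]; norm_num) hrC hr hy hyo
        rw [mem_zpowers_iff_mem_range_orderOf, hr, Finset.mem_image] at h
        obtain ⟨i, hi, rfl⟩ := h
        rw [Finset.mem_range] at hi
        interval_cases i
        · rw [pow_zero, orderOf_one] at hyo; omega
        · exact Or.inl (pow_one r)
        · exact Or.inr rfl
      set f := Nat.card {c : G ⧸ N // r • c = c} with hfdef
      have h1 := hmod r hrC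
      have h3 := hfle r
      have h4 := hone r hr1
      have h2 := card_fixed_modEq (q := 3) hr3 (G ⧸ N)
      rw [← hfdef] at h1
      rw [hidx, h120, ← hfdef] at h2 h3 h4
      have hf := fixed_mul_card r N
      rw [← hfdef, hNc] at hf
      set m := Nat.card {y : G // IsConj r y ∧ y ∈ N} with hmdef
      set H := centralizer ({r} : Set G)
      have hm2 : m ≤ 2 := by
        have hb : Nat.card ({r, r ^ 2} : Finset G) ≤ 2 := by
          rw [Nat.card_eq_fintype_card, Fintype.card_coe]; exact Finset.card_le_two
        refine le_trans (Nat.card_le_card_of_injective (fun y : {y : G // IsConj r y ∧ y ∈ N} =>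
          (⟨y.1, ?_⟩ : ({r, r ^ 2} : Finset G))) fun a b e => ?_) hb
        · obtain ⟨g, hg⟩ := isConj_iff.1 y.2.1
          rcases hline _ y.2.2 (by rw [← hg, ← MulAut.conj_apply, MulEquiv.orderOf_eq, hr]) with e | e <;>
            simp [e]
        · exact Subtype.ext (congrArg Subtype.val e :)
      have hm1 : 1 ≤ m := by
        haveI : Nonempty {y : G // IsConj r y ∧ y ∈ N} := ⟨⟨r, IsConj.refl r, hCN hrC⟩⟩
        exact Nat.card_pos
      have hKd : Nat.card H ∣ 5040 := hn ▸ card_subgroup_dvd_card _
      have hKtop : H ≠ ⊤ := fun h => by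
        refine hr1 (eq_one_of_fixed hNtop ?_)
        refine Nat.card_congr (Equiv.subtypeUnivEquiv fun c => ?_)
        induction c using QuotientGroup.induction_on with
        | _ a =>
          rw [Quotient.smul_coe, QuotientGroup.eq, smul_eq_mul, mul_inv_rev]
          have : a * r = r * a := mem_centralizer_singleton_iff.1 (h ▸ mem_top a : a ∈ H)
          rw [show a⁻¹ * r⁻¹ * a = r⁻¹ by
            calc a⁻¹ * r⁻¹ * a = (a⁻¹ * (r * a))⁻¹ * (a⁻¹ * a) := by group
              _ = r⁻¹ := by rw [← this]; group]
          exact N.inv_mem (hCN hrC)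
      rcases (by omega : m = 1 ∨ m = 2) with hm | hm
      · -- central in the normaliser
        rw [hm, one_mul] at hf
        have hcent : N ≤ H := fun n hn' => by
          refine mem_centralizer_singleton_iff.2 (mul_inv_eq_iff_eq_mul.1 ?_)
          haveI := (Nat.card_eq_one_iff_unique.1 (hmdef.symm.trans hm)).1
          exact congrArg Subtype.val (Subsingleton.elim
            (⟨n * r * n⁻¹, isConj_iff.2 ⟨n, rfl⟩, N.mul_mem (N.mul_mem hn' (hCN hrC)) (N.inv_mem hn')⟩ :
              {y : G // IsConj r y ∧ y ∈ N}) ⟨r, IsConj.refl r, hCN hrC⟩)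
        rw [← hf] at hKd
        have hf15 : f = 15 := by
          have : f ∣ 120 := Nat.dvd_of_mul_dvd_mul_right (by norm_num : 0 < 42) (by simpa using hKd)
          obtain ⟨e, he⟩ := this
          rcases (by omega : f = 15 ∨ f = 36 ∨ f = 57 ∨ f = 78 ∨ f = 99) with h | h | h | h | h
          · exact h
          all_goals rw [h] at he; omega
        have hH8 : Nat.card (G ⧸ H) = 8 := by
          have := H.card_mul_index
          rw [← hf, hf15, hn, index_eq_card] at this
          omega
        have h1' := card_fixed_mod hsq hs (H := H) hcent (hcomm r hrC)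
        have h2' := card_fixed_modEq (q := 3) hr3 (G ⧸ H)
        have h3' : Nat.card {c : G ⧸ H // r • c = c} ≤ Nat.card (G ⧸ H) :=
          Nat.card_le_card_of_injective _ Subtype.val_injective
        have h4' : Nat.card {c : G ⧸ H // r • c = c} ≠ Nat.card (G ⧸ H) := fun h => hr1 (eq_one_of_fixed hKtop h)
        rw [hH8] at h2' h3' h4'
        omega
      · -- a centraliser of order 315
        rw [hm] at hf
        have hHc : Nat.card H = 315 := by
          have h21 : 21 * f ∣ 21 * 240 := by
            rw [show 21 * f = Nat.card H by omega]; exact hKd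
          have : f ∣ 240 := Nat.dvd_of_mul_dvd_mul_left (by norm_num) h21
          obtain ⟨e, he⟩ := this
          rcases (by omega : f = 15 ∨ f = 36 ∨ f = 57 ∨ f = 78 ∨ f = 99) with h | h | h | h | h
          · omega
          all_goals rw [h] at he; omega
        have hsH : s ∈ H := mem_centralizer_singleton_iff.2 (hcomm r hrC).symm.eq
        have hs' : orderOf (⟨s, hsH⟩ : H) = 7 := by rw [orderOf_mk, hs]
        -- fifteen Sylow 7-subgroups inside
        obtain ⟨k7, hk7, hk7'⟩ := exists_count hsq hs hsH
        have hNH : Nat.card (N ⊓ H : Subgroup G) = 21 := by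
          have hle : C ≤ N ⊓ H := le_inf hCN fun c hc => mem_centralizer_singleton_iff.2 (hab c hc r hrC)
          have d1 : 21 ∣ Nat.card (N ⊓ H : Subgroup G) := hC ▸ card_dvd_of_le hle
          have d2 : Nat.card (N ⊓ H : Subgroup G) ∣ 42 := hNc ▸ card_dvd_of_le inf_le_left
          have d3 : Nat.card (N ⊓ H : Subgroup G) ∣ 315 := hHc ▸ card_dvd_of_le inf_le_right
          obtain ⟨a, ha⟩ := d1
          have := Nat.le_of_dvd (by norm_num) d2
          have : a ≤ 2 := by omega
          interval_cases a
          · have := Nat.card_pos (α := (N ⊓ H : Subgroup G)); omega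
          · omega
          · rw [ha] at d3; omega
        have hk15 : k7 = 15 := by
          rw [← hNdef, hNH, hHc] at hk7'
          omega
        haveI : Fact (Nat.Prime 5) := ⟨by norm_num⟩
        obtain ⟨⟨q, hqH⟩, hq⟩ := exists_prime_orderOf_dvd_card' (G := H) 5 (by rw [hHc]; norm_num)
        have hsyl7 : ∀ Q : Sylow 7 H, Nat.card (Q : Subgroup H) = 7 := fun Q =>
          (CfsgLib.SmallSimple.card_sylow_eq Q (k := 1) (m := 45) (by rw [hHc]; norm_num) (by norm_num)).trans (pow_one 7)
        have hsyl5 : ∀ Q : Sylow 5 H, Nat.card (Q : Subgroup H) = 5 := fun Q =>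
          (CfsgLib.SmallSimple.card_sylow_eq Q (k := 1) (m := 63) (by rw [hHc]; norm_num) (by norm_num)).trans (pow_one 5)
        have hc7 := CfsgLib.Simple168.card_orderOf_prime hsyl7
        have hc5 := CfsgLib.Simple168.card_orderOf_prime hsyl5
        have hn7 : Nat.card (Sylow 7 H) = 15 := by
          obtain ⟨Q⟩ : Nonempty (Sylow 7 H) := inferInstance
          have hz : Nat.card (Sylow 7 H) * Nat.card (normalizer ((Q : Subgroup H) : Set H)) = 315 :=
            hHc ▸ CfsgLib.SmallSimple.card_sylow_mul Q
          let Ps : Sylow 7 H := Sylow.ofCard ((zpowers s).subgroupOf H) (by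
            rw [Nat.card_congr (subgroupOfEquivOfLe (zpowers_le.2 hsH)).toEquiv, Nat.card_zpowers, hs,
              factorization_eq_one Fact.out Nat.card_pos.ne' (by rw [hHc]; norm_num) (by rw [hHc]; norm_num),
              pow_one])
          have h := CfsgLib.SmallSimple.card_sylow_mul Ps
          rw [show ((Ps : Subgroup H) : Set H) = (((zpowers s).subgroupOf H : Subgroup H) : Set H) from rfl,
            ← subgroupOf_normalizer_eq (zpowers_le.2 hsH),
            show Nat.card ((normalizer ((zpowers s : Subgroup G) : Set G)).subgroupOf H) = Nat.card (N ⊓ H : Subgroup G) from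
              (Nat.card_congr (Subgroup.equivMapOfInjective _ H.subtype H.subtype_injective).toEquiv).trans
                (by rw [subgroupOf_map_subtype]), hNH, hHc] at h
          omega
        have hn5 : 21 ≤ Nat.card (Sylow 5 H) := by
          obtain ⟨Q⟩ : Nonempty (Sylow 5 H) := inferInstance
          have hd : Nat.card (Sylow 5 H) ∣ 63 := by
            have h := Q.card_dvd_index
            have h2 := (Q : Subgroup H).card_mul_index
            rw [hsyl5, hHc] at h2
            rwa [show (Q : Subgroup H).index = 63 by omega] at h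
          have hm5 : Nat.card (Sylow 5 H) % 5 = 1 :=
            Eq.trans (card_sylow_modEq_one 5 H) (Nat.mod_eq_of_lt (by norm_num : 1 < 5))
          by_contra hlt
          have h1 : Nat.card (Sylow 5 H) = 1 := by
            obtain ⟨e, he⟩ := hd
            rcases (by omega : Nat.card (Sylow 5 H) = 1 ∨ Nat.card (Sylow 5 H) = 6 ∨
              Nat.card (Sylow 5 H) = 11 ∨ Nat.card (Sylow 5 H) = 16) with h | h | h | h
            · exact h
            all_goals rw [h] at he; omega
          -- a normal subgroup of order five is centralised by `s`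
          haveI := (Nat.card_eq_one_iff_unique.1 h1).1
          haveI : (Q : Subgroup H).Normal := Sylow.normal_of_subsingleton Q
          have htop : Nat.card (normalizer ((Q : Subgroup H) : Set H)) = 315 := by
            rw [normalizer_eq_top, card_top, hHc]
          have hd' := CfsgLib.PermSimple.normalizer_card_dvd (Q : Subgroup H) (hsyl5 Q)
          rw [htop] at hd'
          have h315 : 315 ∣ Nat.card (centralizer ((Q : Subgroup H) : Set H)) :=
            Nat.Coprime.dvd_of_dvd_mul_right (by norm_num) hd'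
          have hall : centralizer ((Q : Subgroup H) : Set H) = ⊤ := eq_top_of_card_eq _ (by
            have := Nat.le_of_dvd Nat.card_pos h315
            have := Nat.le_of_dvd Nat.card_pos (card_subgroup_dvd_card (centralizer ((Q : Subgroup H) : Set H)))
            omega)
          obtain ⟨x, hx⟩ := exists_prime_orderOf_dvd_card' (G := (Q : Subgroup H)) 5 (by rw [hsyl5])
          have hxs : ((x : H) : G) * s = s * ((x : H) : G) := congrArg Subtype.val
            (mem_centralizer_iff.1 (show (⟨s, hsH⟩ : H) ∈ centralizer ((Q : Subgroup H) : Set H) by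
              rw [hall]; exact mem_top _) x x.2)
          have hxC : ((x : H) : G) ∈ C := mem_centralizer_singleton_iff.2 hxs
          have h5 := orderOf_dvd_natCard (⟨_, hxC⟩ : C)
          rw [orderOf_mk, Subgroup.orderOf_coe, Subgroup.orderOf_coe, hx, hC] at h5
          omega
        -- too many elements
        haveI := Fintype.ofFinite H
        set r' : H := ⟨r, mem_centralizer_singleton_iff.2 rfl⟩
        have hr' : orderOf r' = 3 := by rw [orderOf_mk, hr]
        have hrcomm : ∀ x : H, Commute x r' := fun x => Subtype.ext (mem_centralizer_singleton_iff.1 x.2)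
        have hinj : Nat.card ({x : H // orderOf x = 7} ⊕ {x : H // orderOf x = 5}) * Nat.card (zpowers r') ≤
            Nat.card H := by
          rw [← Nat.card_prod]
          refine Nat.card_le_card_of_injective (fun z => (Sum.elim Subtype.val Subtype.val z.1 : H) * z.2) ?_
          rintro ⟨x, ⟨a, ha⟩⟩ ⟨y, ⟨b, hb⟩⟩ e
          have ho : ∀ z : {x : H // orderOf x = 7} ⊕ {x : H // orderOf x = 5},
              (Sum.elim Subtype.val Subtype.val z : H) ^ 35 = 1 := fun z => by
            rcases z with ⟨z, hz⟩ | ⟨z, hz⟩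
            · rw [show (35 : ℕ) = 7 * 5 by norm_num, pow_mul]
              show (z ^ 7) ^ 5 = 1
              rw [← hz, pow_orderOf_eq_one, one_pow]
            · rw [show (35 : ℕ) = 5 * 7 by norm_num, pow_mul]
              show (z ^ 5) ^ 7 = 1
              rw [← hz, pow_orderOf_eq_one, one_pow]
          have hz3 : ∀ a ∈ zpowers r', a ^ 3 = 1 := fun a ha => by
            have := pow_card_eq_one' (x := (⟨a, ha⟩ : zpowers r'))
            rw [Nat.card_zpowers, hr'] at this
            exact congrArg Subtype.val this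
          have e' : (Sum.elim Subtype.val Subtype.val x : H) * a = Sum.elim Subtype.val Subtype.val y * b := e
          have hcx : ∀ z : H, ∀ a ∈ zpowers r', Commute z a := fun z a ha => by
            obtain ⟨i, rfl⟩ := ha
            exact (hrcomm _).zpow_right i
          have e36 := congrArg (· ^ 36) e'
          simp only [(hcx _ a ha).mul_pow, (hcx _ b hb).mul_pow] at e36
          rw [show a ^ 36 = 1 by rw [show (36 : ℕ) = 3 * 12 by norm_num, pow_mul, hz3 a ha, one_pow],
            show b ^ 36 = 1 by rw [show (36 : ℕ) = 3 * 12 by norm_num, pow_mul, hz3 b hb, one_pow],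
            mul_one, mul_one, pow_succ _ 35, pow_succ _ 35, ho, ho, one_mul, one_mul] at e36
          have hab' : a = b := by rwa [e36, mul_right_inj] at e'
          subst hab'
          refine Prod.ext ?_ rfl
          rcases x with ⟨x, hx⟩ | ⟨x, hx⟩ <;> rcases y with ⟨y, hy⟩ | ⟨y, hy⟩ <;>
            simp only [Sum.elim_inl, Sum.elim_inr] at e36 <;> subst e36
          · rfl
          · omega
          · omega
          · rfl
        rw [Nat.card_sum, Nat.card_zpowers, hr', hc7, hc5, hn7, hHc] at hinj
        omega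

end CfsgLib.FiftyForty
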