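import Mathlib

/-!
# The degrees and values in a hypothetical simple group of order 5040

An option is a triple `(d, a, v)`: a degree, the value at an element of order 7 and the value at an
involution inverting it.
-/

set_option autoImplicit false

namespace CfsgLib.FiftyForty

/-- Options. -/
abbrev Opt : Type := ℕ × ℤ × ℤ

/-- Accumulated sums: squares of values, squares of degrees, the two relations, the class sum. -/
abbrev Acc : Type := ℤ × ℤ × ℤ × ℤ × ℤ

/-- The list of options. -/
def opts : List Opt :=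
  [(2, 2, -2), (2, 2, 2), (8, 1, 0), (9, 2, -3), (9, 2, 1), (12, -2, 0), (15, 1, -1), (15, 1, 3),
    (16, 2, -4), (16, 2, 0), (16, 2, 4), (20, -1, 0), (30, 2, -6), (30, 2, -2), (30, 2, 2), (30, 2, 6),
    (36, 1, -4), (36, 1, 0), (36, 1, 4), (40, -2, -4), (40, -2, 0), (40, -2, 4), (48, -1, -4),
    (48, -1, 0), (48, -1, 4)]

/-- Admissible options. -/
def admissible (d : ℕ) (a v : ℤ) : Bool :=
  decide (2 ≤ d) && 5040 % d == 0 && decide (1 ≤ a * a) && decide (a * a ≤ 6) && (a - d) % 7 == 0 &&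
    ((d : ℤ) - v) % 4 == 0 && decide (7 * v ≤ d + 6 * a) && decide (-(7 * v) ≤ d + 6 * a)

theorem opts_complete : ((List.range 71).all fun d => [(-2 : ℤ), -1, 1, 2].all fun a =>
    (List.range 25).all fun i => !(admissible d a ((i : ℤ) - 12)) || opts.contains (d, a, (i : ℤ) - 12)) = true := by
  decide +kernel

/-- The contribution of an option. -/
def wgt (o : Opt) : Acc :=
  (o.2.1 * o.2.1, (o.1 : ℤ) * o.1, o.2.1 * o.1, o.2.1 * o.2.2, o.2.1 * o.2.2 * o.2.2 * (5040 / o.1 : ℕ))

/-- The possible class sums. -/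
def sums : List ℤ := [5376, 5936, 6384, 10304, 16464, 28224]

/-- The leaf condition. -/
def leaf (s : Acc) : Bool :=
  !(decide (s.1 = 6) && decide (s.2.1 ≤ 5039) && decide (1 + s.2.2.1 = 0) && decide (1 + s.2.2.2.1 = 0)) ||
    sums.contains (5040 + s.2.2.2.2)

/-- Adding an option repeatedly. -/
def addTimes (s : Acc) (k : ℕ) (o : Opt) : Acc :=
  (s.1 + k * (wgt o).1, s.2.1 + k * (wgt o).2.1, s.2.2.1 + k * (wgt o).2.2.1,
    s.2.2.2.1 + k * (wgt o).2.2.2.1, s.2.2.2.2 + k * (wgt o).2.2.2.2)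

/-- All combinations. -/
def go : List Opt → Acc → Bool
  | [], s => leaf s
  | o :: os, s => (List.range 7).all fun k =>
      !(decide ((addTimes s k o).1 ≤ 6) && decide ((addTimes s k o).2.1 ≤ 5039)) || go os (addTimes s k o)

theorem go_opts : go opts (0, 0, 0, 0, 0) = true := by decide +kernel

theorem addTimes_eq (s : Acc) (k : ℕ) (o : Opt) : addTimes s k o = s + k • wgt o := by
  simp [addTimes, Prod.ext_iff]

theorem wgt_nonneg (o : Opt) : 0 ≤ (wgt o).1 ∧ 0 ≤ (wgt o).2.1 :=
  ⟨mul_self_nonneg _, mul_self_nonneg _⟩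

theorem one_le_of_mem : ∀ o ∈ opts, 1 ≤ (wgt o).1 := by decide +kernel

theorem go_spec : ∀ (os : List Opt) (s : Acc) (m : Multiset Opt), go os s = true →
    (∀ o ∈ m, o ∈ os) → (∀ o ∈ m, 1 ≤ (wgt o).1) → 0 ≤ s.1 → (s + (m.map wgt).sum).1 ≤ 6 →
    (s + (m.map wgt).sum).2.1 ≤ 5039 → leaf (s + (m.map wgt).sum) = true := by
  intro os
  induction os with
  | nil =>
    intro s m h hm _ _ _ _
    rw [Multiset.eq_zero_of_forall_notMem fun o ho => List.not_mem_nil (hm o ho)]
    simpa [go] using h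
  | cons o os ih =>
    intro s m h hm hw hs h1 h2
    set k := m.count o
    set m' := m.filter (fun x => x ≠ o)
    have hsplit : m = Multiset.replicate k o + m' := by
      rw [← Multiset.filter_eq' m o]
      exact (Multiset.filter_add_not _ m).symm
    have hsum : (m.map wgt).sum = k • wgt o + (m'.map wgt).sum := by
      conv_lhs => rw [hsplit]
      rw [Multiset.map_add, Multiset.sum_add, Multiset.map_replicate, Multiset.sum_replicate]
    have hnn : 0 ≤ ((m'.map wgt).sum).1 ∧ 0 ≤ ((m'.map wgt).sum).2.1 := by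
      refine Multiset.sum_induction (fun x : Acc => 0 ≤ x.1 ∧ 0 ≤ x.2.1) _
        (fun a b ha hb => ⟨add_nonneg ha.1 hb.1, add_nonneg ha.2 hb.2⟩) ⟨le_rfl, le_rfl⟩ fun x hx => ?_
      obtain ⟨y, -, rfl⟩ := Multiset.mem_map.1 hx
      exact wgt_nonneg y
    rw [hsum, ← add_assoc, ← addTimes_eq] at h1 h2 ⊢
    have hk : k < 7 := by
      rcases Nat.eq_zero_or_pos k with h0 | h0
      · omega
      have := hw o (Multiset.count_pos.1 h0)
      simp only [addTimes, Prod.fst_add] at h1
      have : (k : ℤ) * 1 ≤ (k : ℤ) * (wgt o).1 := mul_le_mul_of_nonneg_left this (Int.natCast_nonneg k)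
      omega
    rw [go, List.all_eq_true] at h
    have h' := h k (List.mem_range.2 hk)
    simp only [Prod.fst_add, Prod.snd_add] at h1 h2
    rw [Bool.or_eq_true, Bool.not_eq_true', Bool.and_eq_false_iff, decide_eq_false_iff_not,
      decide_eq_false_iff_not] at h'
    rcases h' with h' | h'
    · exfalso
      rcases h' with h' | h' <;> apply h' <;> linarith [hnn.1, hnn.2]
    · refine ih _ m' h' (fun x hx => ?_) (fun x hx => hw x (Multiset.mem_filter.1 hx).1) ?_
        (by simpa using h1) (by simpa using h2)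
      · obtain ⟨hx1, hx2⟩ := Multiset.mem_filter.1 hx
        exact (List.mem_cons.1 (hm x hx1)).resolve_left hx2
      · have := mul_nonneg (Int.natCast_nonneg k) (wgt_nonneg o).1
        simp only [addTimes]
        linarith

theorem mem_opts {d : ℕ} {a v : ℤ} (hd : d ≤ 70) (h : admissible d a v = true) : (d, a, v) ∈ opts := by
  simp only [admissible, Bool.and_eq_true, decide_eq_true_eq, beq_iff_eq] at h
  obtain ⟨⟨⟨⟨⟨⟨⟨h1, h2⟩, h3⟩, h4⟩, h5⟩, h6⟩, h7⟩, h8⟩ := h
  have ha : a = -2 ∨ a = -1 ∨ a = 1 ∨ a = 2 := by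
    have : -2 ≤ a ∧ a ≤ 2 := ⟨by nlinarith, by nlinarith⟩
    rcases (by omega : a = -2 ∨ a = -1 ∨ a = 0 ∨ a = 1 ∨ a = 2) with h | h | h | h | h <;> simp_all
  have hv : -12 ≤ v ∧ v ≤ 12 := by omega
  have hc := opts_complete
  simp only [List.all_eq_true, List.mem_range, Bool.or_eq_true, Bool.not_eq_true'] at hc
  have hi := hc d (by omega) a (by simpa using ha) (v + 12).toNat (by omega)
  rw [show (((v + 12).toNat : ℕ) : ℤ) - 12 = v by omega] at hi
  rcases hi with hi | hi
  · exfalso
    simp [admissible, h1, h2, h3, h4, h5, h6, h7, h8] at hi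
  · exact List.elem_iff.1 hi

/-- No class size squared gives one of the class sums. -/
theorem no_class_size {S : ℤ} (hS : S ∈ sums) {K : ℕ} (h : S * (K : ℤ) ^ 2 = 177811200) : False := by
  simp only [sums, List.mem_cons, List.not_mem_nil, or_false] at hS
  rcases hS with rfl | rfl | rfl | rfl | rfl | rfl <;>
  · have h1 : (K : ℤ) < 184 := by nlinarith
    have h2 : K < 184 := by omega
    interval_cases K <;> norm_num at h

end CfsgLib.FiftyForty
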