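import Cfsg.Agent.SmallSimple.FiftyForty.Table
import Cfsg.Agent.SmallSimple.FiftyForty.Proj
import Cfsg.Agent.SmallSimple.OrderBound.SevenTwenty
import Cfsg.Agent.SmallSimple.ColumnData

/-!
# A simple group of order 5040 has no self-centralising element of order 7 with normaliser of order 42
-/

set_option autoImplicit false
set_option linter.style.haveILetI false
set_option linter.unusedSectionVars false

namespace CfsgLib.FiftyForty

open Finset CfsgLib.Char
open scoped commutatorElement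

variable {G : Type*} [Group G] [Finite G] [IsSimpleGroup G]

theorem perfect (hG : ¬ IsMulCommutative G) : commutator G = ⊤ := by
  rcases IsSimpleGroup.eq_bot_or_eq_top_of_normal (commutator G) inferInstance with h | h
  · exfalso
    refine hG ⟨⟨fun a b => ?_⟩⟩
    have h2 : ⁅a, b⁆ ∈ commutator G := by
      rw [_root_.commutator_def]
      exact Subgroup.commutator_mem_commutator (Subgroup.mem_top a) (Subgroup.mem_top b)
    rwa [h, Subgroup.mem_bot, commutatorElement_eq_one_iff_mul_comm] at h2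
  · exact h

theorem false_of_self_centralizing [Fintype G] (hG : ¬ IsMulCommutative G) (hn : Nat.card G = 5040) {s w : G}
    (hs : orderOf s = 7) (hC : Nat.card (Subgroup.centralizer ({s} : Set G)) = 7)
    (hfus : ∀ z ∈ Subgroup.zpowers s, z ≠ 1 → IsConj s z) (hww : w * w = 1) (hws : w * s * w⁻¹ = s⁻¹) :
    False := by
  classical
  set P := Subgroup.zpowers s with hP
  set C := Subgroup.centralizer ({s} : Set G) with hCdef
  have hPcard : Nat.card P = 7 := by rw [Nat.card_zpowers, hs]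
  have hPC : P = C := Subgroup.eq_of_le_of_card_ge (Subgroup.zpowers_le.2
    (Subgroup.mem_centralizer_singleton_iff.2 rfl)) (by rw [hC, hPcard])
  have hs1 : s ≠ 1 := fun h => by rw [h, orderOf_one] at hs; omega
  have hw1 : w ≠ 1 := fun h => by
    rw [h, one_mul, inv_one, mul_one] at hws
    have h2 : s ^ 2 = 1 := by rw [sq]; nth_rewrite 2 [hws]; exact mul_inv_cancel s
    have := hs ▸ orderOf_dvd_of_pow_eq_one h2
    omega
  have hw2 : orderOf w = 2 := orderOf_eq_prime (by rw [sq, hww]) hw1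
  have hwi : w⁻¹ = w := inv_eq_of_mul_eq_one_right hww
  have hwz : ∀ z ∈ P, w * z = z⁻¹ * w := fun z hz => by
    obtain ⟨i, rfl⟩ := hz
    show w * s ^ i = (s ^ i)⁻¹ * w
    rw [← mul_inv_eq_iff_eq_mul, ← conj_zpow, hws, inv_zpow]
  -- every element of the coset is conjugate to the involution
  have hconj : ∀ c ∈ P, IsConj w (c * w) := by
    intro c hc
    refine isConj_iff.2 ⟨c ^ 4, ?_⟩
    have h7 : c ^ 7 = 1 := by
      have h : c ^ Nat.card P = 1 := congrArg Subtype.val (pow_card_eq_one' (x := (⟨c, hc⟩ : P)))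
      rwa [hPcard] at h
    calc c ^ 4 * w * (c ^ 4)⁻¹ = c ^ 4 * (w * (c ^ 4)⁻¹) := mul_assoc _ _ _
      _ = c ^ 4 * (c ^ 4 * w) := by rw [hwz _ (inv_mem (pow_mem hc 4)), inv_inv]
      _ = c ^ 8 * w := by rw [← mul_assoc, ← pow_add]
      _ = c * w := by rw [pow_succ, h7, one_mul]
  have hinvol : ∀ x, IsConj w x → x * x = 1 := fun x hx => by
    obtain ⟨g, rfl⟩ := isConj_iff.1 hx
    calc g * w * g⁻¹ * (g * w * g⁻¹) = g * (w * w) * g⁻¹ := by group
      _ = 1 := by rw [hww, mul_one, mul_inv_cancel]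
  have hpairs : Nat.card {q : G × G // IsConj w q.1 ∧ IsConj w q.2 ∧ q.1 * q.2 = s} = 7 := by
    rw [← hPcard]
    refine (Nat.card_eq_of_bijective (fun c : P => (⟨((c : G) * w, ((c : G) * w) * s), hconj c c.2, ?_,
      by rw [← mul_assoc, hinvol _ (hconj c c.2), one_mul]⟩ :
        {q : G × G // IsConj w q.1 ∧ IsConj w q.2 ∧ q.1 * q.2 = s})) ⟨?_, ?_⟩).symm
    · rw [mul_assoc, hwz s (Subgroup.mem_zpowers s), ← mul_assoc]
      exact hconj _ (mul_mem c.2 (inv_mem (Subgroup.mem_zpowers s)))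
    · intro a b hab
      simp only [Subtype.mk.injEq, Prod.mk.injEq, mul_left_inj] at hab
      exact Subtype.ext hab.1
    · rintro ⟨⟨u, v⟩, hu, hv, huv⟩
      have hu2 := hinvol u hu
      have hv2 := hinvol v hv
      simp only at hu hv huv hu2 hv2
      have hmem : u * w ∈ P := by
        rw [hPC, hCdef, Subgroup.mem_centralizer_singleton_iff]
        have h1 : u * s⁻¹ * u⁻¹ = s := by
          rw [← huv, mul_inv_rev, inv_eq_of_mul_eq_one_right hu2, inv_eq_of_mul_eq_one_right hv2, mul_assoc,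
            mul_assoc, hu2, mul_one]
        calc u * w * s = u * (w * s * w⁻¹) * u⁻¹ * (u * w) := by group
          _ = s * (u * w) := by rw [hws, h1]
      refine ⟨⟨u * w, hmem⟩, Subtype.ext (Prod.ext ?_ ?_)⟩
      · simp only; rw [mul_assoc, hww, mul_one]
      · simp only; rw [mul_assoc u w w, hww, mul_one, ← huv, ← mul_assoc, hu2, one_mul]
  -- the values of the characters
  haveI := Fintype.ofFinite P
  have hPF : Fintype.card P = 7 := by rw [← Nat.card_eq_fintype_card, hPcard]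
  have hperf := perfect hG
  set triv : G → ℂ := fun _ => 1 with htriv
  have hvals : ∀ χ : G → ℂ, ∃ (d : ℕ) (a v : ℤ), χ ∈ irrFinset G →
      χ 1 = d ∧ χ s = a ∧ χ w = v ∧ 0 < d ∧ (7 : ℤ) ∣ a - d ∧ 4 ∣ (d : ℤ) - v ∧
        7 * v ≤ d + 6 * a ∧ -(7 * v) ≤ d + 6 * a := by
    intro χ
    by_cases hm : χ ∈ irrFinset G
    swap
    · exact ⟨0, 0, 0, fun h => absurd h hm⟩
    have hχ := mem_irrFinset.1 hm
    have hcl := IsIrrCharacter.isClassFunction hχ
    obtain ⟨d, hd0, hd⟩ := IsIrrCharacter.exists_degree hχ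
    obtain ⟨v, hv, hv4, -, -⟩ :=
      CfsgLib.InvolValues.invol_mod_four hperf (IsIrrCharacter.isCharacter hχ) hww hd
    have hsum : ∑ z : P, χ z = (d : ℂ) + 6 * χ s := by
      rw [← Finset.add_sum_erase _ _ (Finset.mem_univ (1 : P)), OneMemClass.coe_one, hd]
      congr 1
      rw [Finset.sum_congr rfl (fun (z : P) hz => (IsClassFunction.apply_eq_of_isConj hcl
        (hfus z z.2 fun h => (Finset.mem_erase.1 hz).1 (Subtype.ext h))).symm), Finset.sum_const,
        Finset.card_erase_of_mem (Finset.mem_univ _), Finset.card_univ, hPF]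
      norm_num
    have hsumw : ∑ z : P, χ (w * z) = 7 * χ w := by
      rw [Finset.sum_congr rfl (fun (z : P) _ => show χ (w * z) = χ w by
        rw [hwz z z.2]; exact (IsClassFunction.apply_eq_of_isConj hcl (hconj _ (inv_mem z.2))).symm),
        Finset.sum_const, Finset.card_univ, hPF]
      norm_num
    obtain ⟨m₁, m₂, h1, h2⟩ := exists_inverted_bound (P := P) (IsIrrCharacter.isCharacter hχ) hww
      (fun z => hwz z z.2)
    rw [hsum, hsumw, hPF, hv] at h1 h2
    obtain ⟨a, ha, haq⟩ := exists_int_of_isIntegral_rat ((7 * ((m₁ : ℤ) + m₂) - d : ℚ) / 6)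
      (IsCharacter.isIntegral (IsIrrCharacter.isCharacter hχ) s)
      (by push_cast at h1 h2 ⊢; linear_combination (1 / 12 : ℂ) * h1 + (1 / 12 : ℂ) * h2)
    rw [ha] at h1 h2
    have e1 : (d : ℤ) + 6 * a + 7 * v = 14 * m₁ := by
      apply Int.cast_injective (α := ℂ); push_cast at h1 ⊢; linear_combination h1
    have e2 : (d : ℤ) + 6 * a - 7 * v = 14 * m₂ := by
      apply Int.cast_injective (α := ℂ); push_cast at h2 ⊢; linear_combination h2
    refine ⟨d, a, v, fun _ => ⟨hd, ha, hv, hd0, ⟨a - m₁ - m₂, by linarith⟩, hv4, ?_, ?_⟩⟩ <;> omega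
  choose D A X hv using hvals
  have htm : triv ∈ irrFinset G := mem_irrFinset.mpr isIrrCharacter_one
  obtain ⟨hD1, hA1, hX1⟩ : D triv = 1 ∧ A triv = 1 ∧ X triv = 1 := by
    obtain ⟨h1, h2, h3, -⟩ := hv triv htm
    simp only [htriv] at h1 h2 h3
    exact ⟨by exact_mod_cast h1.symm, by exact_mod_cast h2.symm, by exact_mod_cast h3.symm⟩
  have hn1s : ¬ IsConj 1 s := fun hc => hs1 (isConj_one_right.1 hc)
  have hnws : ¬ IsConj w s := fun hc => by
    obtain ⟨g, hg⟩ := isConj_iff.1 hc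
    have := (MulAut.conj g).orderOf_eq w
    rw [MulAut.conj_apply, hg, hs, hw2] at this
    omega
  have hSa : ∑ χ ∈ irrFinset G, A χ * A χ = 7 := by
    have h := sum_irr_mul_conj s s
    rw [if_pos (IsConj.refl s), hC, sum_congr rfl fun χ hχ => by rw [(hv χ hχ).2.1, map_intCast]] at h
    exact_mod_cast h
  have hSd : ∑ χ ∈ irrFinset G, (D χ : ℤ) * A χ = 0 := by
    have h := sum_irr_mul_conj 1 s
    rw [if_neg hn1s, sum_congr rfl fun χ hχ => by rw [(hv χ hχ).1, (hv χ hχ).2.1, map_intCast]] at h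
    exact_mod_cast h
  have hSx : ∑ χ ∈ irrFinset G, X χ * A χ = 0 := by
    have h := sum_irr_mul_conj w s
    rw [if_neg hnws, sum_congr rfl fun χ hχ => by rw [(hv χ hχ).2.2.1, (hv χ hχ).2.1, map_intCast]] at h
    exact_mod_cast h
  have hSq : ∑ χ ∈ irrFinset G, (D χ : ℤ) ^ 2 = 5040 := by
    have h := sum_degree_sq (G := G)
    rw [hn, sum_congr rfl fun χ hχ => by rw [(hv χ hχ).1]] at h
    exact_mod_cast h
  set I := (irrFinset G).erase triv with hI
  set Q := I.filter fun χ => A χ ≠ 0 with hQ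
  have hsplit : ∀ (F : (G → ℂ) → ℤ), (∀ χ ∈ I, A χ = 0 → F χ = 0) →
      ∑ χ ∈ irrFinset G, F χ = F triv + ∑ χ ∈ Q, F χ := by
    intro F hF
    rw [← add_sum_erase _ _ htm]
    congr 1
    exact (sum_subset (filter_subset _ _) fun χ hχ hn => hF χ hχ
      (by_contra fun h => hn (mem_filter.2 ⟨hχ, h⟩))).symm
  rw [hsplit _ (fun χ _ h => by rw [h, mul_zero]), hA1] at hSa
  rw [hsplit _ (fun χ _ h => by rw [h, mul_zero]), hA1, hD1] at hSd
  rw [hsplit _ (fun χ _ h => by rw [h, mul_zero]), hA1, hX1] at hSx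
  have hSq' : ∑ χ ∈ Q, (D χ : ℤ) * D χ ≤ 5039 := by
    rw [← add_sum_erase _ _ htm, hD1, ← hI] at hSq
    have h := sum_le_sum_of_subset_of_nonneg (f := fun χ => (D χ : ℤ) ^ 2) (filter_subset (fun χ => A χ ≠ 0) I)
      fun χ _ _ => sq_nonneg _
    simp only [sq] at h hSq
    push_cast at hSq
    rw [hQ]
    linarith
  have hmemQ : ∀ χ ∈ Q, (D χ, A χ, X χ) ∈ opts ∧ D χ ∣ 5040 := by
    intro χ hχ
    have hI' := (mem_filter.1 hχ).1
    have hm := mem_of_mem_erase hI'
    have hχ' := mem_irrFinset.1 hm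
    obtain ⟨h1, -, -, hd0, hc7, hc4, hxl, hxu⟩ := hv χ hm
    have hne : χ ≠ triv := ne_of_mem_erase hI'
    have hdiv : D χ ∣ 5040 := hn ▸ IsIrrCharacter.degree_dvd_card hχ' h1
    have hd2 : 2 ≤ D χ := by
      have h := CfsgLib.ColumnData.ne_one_of_simple hG hχ' hne
      rw [h1] at h
      by_contra hlt
      exact h (by rw [show D χ = 1 by omega, Nat.cast_one])
    have hd70 : D χ ≤ 70 := by
      have h := single_le_sum (f := fun ψ => (D ψ : ℤ) * D ψ) (fun ψ _ => mul_self_nonneg _) hχ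
      nlinarith
    have ha6 : A χ * A χ ≤ 6 := by
      have h := single_le_sum (f := fun ψ => A ψ * A ψ) (fun ψ _ => mul_self_nonneg _) hχ
      linarith
    have ha0 : 1 ≤ A χ * A χ := by
      have := mul_self_pos.2 (mem_filter.1 hχ).2
      omega
    refine ⟨mem_opts hd70 ?_, hdiv⟩
    simp only [admissible, Bool.and_eq_true, decide_eq_true_eq, beq_iff_eq]
    exact ⟨⟨⟨⟨⟨⟨⟨hd2, Nat.mod_eq_zero_of_dvd hdiv⟩, ha0⟩, ha6⟩, Int.emod_eq_zero_of_dvd hc7⟩,
      Int.emod_eq_zero_of_dvd hc4⟩, hxl⟩, hxu⟩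
  -- the table
  set m : Multiset Opt := Q.val.map fun χ => (D χ, A χ, X χ) with hm
  have hmap : (m.map wgt).sum = ∑ χ ∈ Q, wgt (D χ, A χ, X χ) := by
    rw [hm, Multiset.map_map]; rfl
  have hleaf := go_spec opts (0, 0, 0, 0, 0) m go_opts
    (fun o ho => by obtain ⟨χ, hχ, rfl⟩ := Multiset.mem_map.1 ho; exact (hmemQ χ hχ).1)
    (fun o ho => by obtain ⟨χ, hχ, rfl⟩ := Multiset.mem_map.1 ho; exact one_le_of_mem _ (hmemQ χ hχ).1)
    le_rfl
  rw [show ((0, 0, 0, 0, 0) : Acc) = 0 from rfl, zero_add, hmap] at hleaf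
  have e1 : (∑ χ ∈ Q, wgt (D χ, A χ, X χ)).1 = 6 := by
    rw [Prod.fst_sum]; simp only [wgt]; linarith
  have e2 : (∑ χ ∈ Q, wgt (D χ, A χ, X χ)).2.1 ≤ 5039 := by
    rw [Prod.snd_sum, Prod.fst_sum]; exact hSq'
  have e3 : 1 + (∑ χ ∈ Q, wgt (D χ, A χ, X χ)).2.2.1 = 0 := by
    rw [Prod.snd_sum, Prod.snd_sum, Prod.fst_sum]
    simp only [wgt]
    rw [sum_congr rfl fun χ _ => mul_comm (A χ) (D χ : ℤ)]
    push_cast at hSd
    linarith
  have e4 : 1 + (∑ χ ∈ Q, wgt (D χ, A χ, X χ)).2.2.2.1 = 0 := by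
    rw [Prod.snd_sum, Prod.snd_sum, Prod.snd_sum, Prod.fst_sum]
    simp only [wgt]
    rw [sum_congr rfl fun χ _ => mul_comm (A χ) (X χ)]
    linarith
  have hleaf := hleaf e1.le e2
  simp only [leaf, Bool.or_eq_true, Bool.not_eq_true', Bool.and_eq_false_iff, decide_eq_false_iff_not] at hleaf
  have hmem : 5040 + (∑ χ ∈ Q, wgt (D χ, A χ, X χ)).2.2.2.2 ∈ sums := by
    rcases hleaf with (((h | h) | h) | h) | h
    · exact absurd e1 h
    · exact absurd e2 h
    · exact absurd e3 h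
    · exact absurd e4 h
    · exact List.elem_iff.1 h
  -- the class multiplication formula
  refine no_class_size hmem (K := Nat.card {x : G // IsConj w x}) ?_
  have h := card_class_products w w s
  rw [hpairs, hn] at h
  rw [Prod.snd_sum, Prod.snd_sum, Prod.snd_sum, Prod.snd_sum]
  simp only [wgt]
  have hkey : ((5040 + ∑ χ ∈ Q, A χ * X χ * X χ * ((5040 / D χ : ℕ) : ℤ) : ℤ) : ℂ) =
      5040 * ∑ χ ∈ irrFinset G, χ w * χ w * (starRingEnd ℂ) (χ s) / χ 1 := by
    have hs' := hsplit (fun χ => A χ * X χ * X χ * ((5040 / D χ : ℕ) : ℤ)) (fun χ _ h => by simp [h])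
    rw [hA1, hX1, hD1] at hs'
    simp only [one_mul, Nat.div_one, Nat.cast_ofNat] at hs'
    rw [← hs', Int.cast_sum, Finset.mul_sum]
    refine sum_congr rfl fun χ hχ => ?_
    obtain ⟨h1, h2, h3, hd0, -⟩ := hv χ hχ
    have hdiv : D χ ∣ 5040 := hn ▸ IsIrrCharacter.degree_dvd_card (mem_irrFinset.1 hχ) h1
    rw [h1, h2, h3, map_intCast, Int.cast_mul, Int.cast_natCast,
      Nat.cast_div hdiv (Nat.cast_ne_zero.2 hd0.ne')]
    push_cast
    ring
  apply Int.cast_injective (α := ℂ)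
  push_cast at hkey ⊢
  rw [hkey]
  linear_combination (-(25401600 : ℂ)) * h

end CfsgLib.FiftyForty
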